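import Cfsg.Prelude

/-!
# `3'`-groups permuting the involutions of an orthogonal frame of `E₇`, `E₈` (helper565)

`odd_fix7`, `odd_fix8` : `K` a `3'`-group permuting involutions `z i` with the relations of the Hamming code, containing
an element which acts as a transvection: the elements of odd order centralise all `z i`.
`exists_two` : a `2`-group containing a given `2`-group `Q` commuting with all `z i` and an element acting as `τ`.
-/

set_option autoImplicit false

namespace Cfsg.Agent.H565.RX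

open Subgroup
open scoped Pointwise

universe u

/-! ### lists -/

/-- composition of functions given by lists -/
def comp {m : ℕ} [NeZero m] (s t : List (Fin m)) : List (Fin m) := t.map fun i => s.getD i.val 0

theorem comp_ofFn {m : ℕ} [NeZero m] (σ τ : Fin m → Fin m) : comp (List.ofFn σ) (List.ofFn τ) = List.ofFn (σ ∘ τ) := by
  unfold comp
  rw [List.map_ofFn]
  congr 1
  funext i
  simp [List.getD_eq_getElem?_getD]

/-- the word check -/
def chk {m : ℕ} [NeZero m] (t s : List (Fin m)) : Bool :=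
  (comp (comp (comp (comp s s) s) (comp (comp s s) s)) (comp (comp (comp s s) s) (comp (comp s s) s)) == List.finRange m) ||
  ([s, comp s s, comp (comp s s) s, comp (comp s s) (comp s s), comp (comp (comp s s) (comp s s)) s,
    comp (comp (comp s s) s) (comp (comp s s) s)].any fun w =>
      (comp (comp w t) (comp w t) != List.finRange m) &&
      (comp (comp (comp (comp w t) (comp w t)) (comp (comp w t) (comp w t))) (comp (comp w t) (comp w t)) == List.finRange m))

/-- labels of the 7 points of the plane -/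
def lam7 (a : Fin 7) : ℕ := [1, 2, 4, 6, 7, 5, 3].getD a.val 0

/-- the third point of a line -/
def third (a b : Fin 7) : Fin 7 := [0, 0, 1, 6, 2, 5, 3, 4].getD (lam7 a ^^^ lam7 b) 0

/-- labels of the 8 points of the affine space -/
def lam8 (a : Fin 8) : ℕ := [0, 1, 2, 4, 6, 7, 5, 3].getD a.val 0

/-- the fourth point of a plane -/
def fourth (a b c : Fin 8) : Fin 8 := [0, 1, 2, 7, 3, 6, 4, 5].getD (lam8 a ^^^ lam8 b ^^^ lam8 c) 0

/-- the transvection in type `E₇` -/
def tau7 (a : Fin 7) : Fin 7 := [0, 1, 5, 4, 3, 2, 6].getD a.val 0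

/-- the transvection in type `E₈` -/
def tau8 (a : Fin 8) : Fin 8 := [0, 1, 2, 6, 5, 4, 3, 7].getD a.val 0

theorem chk7 : ∀ a b c : Fin 7, a ≠ b → third a b ≠ c → a ≠ c → b ≠ c →
    chk (List.ofFn tau7) [a, b, c, third b c, third a (third b c), third a c, third a b] = true := by
  decide +kernel

theorem chk8_0 : ∀ b c d : Fin 8, (0 : Fin 8) ≠ b → c ∉ [(0 : Fin 8), b] → d ∉ [(0 : Fin 8), b, c, fourth 0 b c] →
    chk (List.ofFn tau8) [(0 : Fin 8), b, c, d, fourth 0 c d, fourth b c d, fourth 0 b d, fourth 0 b c] = true := by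
  decide +kernel

theorem chk8_1 : ∀ b c d : Fin 8, (1 : Fin 8) ≠ b → c ∉ [(1 : Fin 8), b] → d ∉ [(1 : Fin 8), b, c, fourth 1 b c] →
    chk (List.ofFn tau8) [(1 : Fin 8), b, c, d, fourth 1 c d, fourth b c d, fourth 1 b d, fourth 1 b c] = true := by
  decide +kernel

theorem chk8_2 : ∀ b c d : Fin 8, (2 : Fin 8) ≠ b → c ∉ [(2 : Fin 8), b] → d ∉ [(2 : Fin 8), b, c, fourth 2 b c] →
    chk (List.ofFn tau8) [(2 : Fin 8), b, c, d, fourth 2 c d, fourth b c d, fourth 2 b d, fourth 2 b c] = true := by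
  decide +kernel

theorem chk8_3 : ∀ b c d : Fin 8, (3 : Fin 8) ≠ b → c ∉ [(3 : Fin 8), b] → d ∉ [(3 : Fin 8), b, c, fourth 3 b c] →
    chk (List.ofFn tau8) [(3 : Fin 8), b, c, d, fourth 3 c d, fourth b c d, fourth 3 b d, fourth 3 b c] = true := by
  decide +kernel

theorem chk8_4 : ∀ b c d : Fin 8, (4 : Fin 8) ≠ b → c ∉ [(4 : Fin 8), b] → d ∉ [(4 : Fin 8), b, c, fourth 4 b c] →
    chk (List.ofFn tau8) [(4 : Fin 8), b, c, d, fourth 4 c d, fourth b c d, fourth 4 b d, fourth 4 b c] = true := by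
  decide +kernel

theorem chk8_5 : ∀ b c d : Fin 8, (5 : Fin 8) ≠ b → c ∉ [(5 : Fin 8), b] → d ∉ [(5 : Fin 8), b, c, fourth 5 b c] →
    chk (List.ofFn tau8) [(5 : Fin 8), b, c, d, fourth 5 c d, fourth b c d, fourth 5 b d, fourth 5 b c] = true := by
  decide +kernel

theorem chk8_6 : ∀ b c d : Fin 8, (6 : Fin 8) ≠ b → c ∉ [(6 : Fin 8), b] → d ∉ [(6 : Fin 8), b, c, fourth 6 b c] →
    chk (List.ofFn tau8) [(6 : Fin 8), b, c, d, fourth 6 c d, fourth b c d, fourth 6 b d, fourth 6 b c] = true := by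
  decide +kernel

theorem chk8_7 : ∀ b c d : Fin 8, (7 : Fin 8) ≠ b → c ∉ [(7 : Fin 8), b] → d ∉ [(7 : Fin 8), b, c, fourth 7 b c] →
    chk (List.ofFn tau8) [(7 : Fin 8), b, c, d, fourth 7 c d, fourth b c d, fourth 7 b d, fourth 7 b c] = true := by
  decide +kernel

theorem chk8 : ∀ a b c d : Fin 8, a ≠ b → c ∉ [a, b] → d ∉ [a, b, c, fourth a b c] →
    chk (List.ofFn tau8) [a, b, c, d, fourth a c d, fourth b c d, fourth a b d, fourth a b c] = true
  | 0 => chk8_0
  | 1 => chk8_1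
  | 2 => chk8_2
  | 3 => chk8_3
  | 4 => chk8_4
  | 5 => chk8_5
  | 6 => chk8_6
  | 7 => chk8_7

/-! ### the permutation action -/

section act

variable {Γ : Type u} [Group Γ] {m : ℕ} [NeZero m] {z : Fin m → Γ} (hz : Function.Injective z) {K : Subgroup Γ}
  (hperm : ∀ x ∈ K, ∀ i, ∃ j, x * z i * x⁻¹ = z j)

/-- the permutation -/
noncomputable def sig (x : ↥K) : Fin m → Fin m := fun i => (hperm x x.2 i).choose

theorem sig_spec (x : ↥K) (i : Fin m) : (x : Γ) * z i * (x : Γ)⁻¹ = z (sig hperm x i) := (hperm x x.2 i).choose_spec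

include hz

theorem sig_eq (x : ↥K) {i j : Fin m} (h : (x : Γ) * z i * (x : Γ)⁻¹ = z j) : sig hperm x i = j :=
  hz ((sig_spec hperm x i).symm.trans h)

theorem sig_mul (x y : ↥K) : sig hperm (x * y) = sig hperm x ∘ sig hperm y := by
  funext i
  refine sig_eq hz hperm _ ?_
  rw [Function.comp_apply, ← sig_spec hperm x, ← sig_spec hperm y, Subgroup.coe_mul]
  group

theorem sig_one : sig hperm (1 : ↥K) = id := by
  funext i
  refine sig_eq hz hperm _ ?_
  rw [Subgroup.coe_one, one_mul, inv_one, mul_one, id]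

theorem sig_inj (x : ↥K) : Function.Injective (sig hperm x) := by
  intro i j h
  have h1 := sig_spec hperm x i
  rw [h, ← sig_spec hperm x j] at h1
  exact hz (by simpa using h1)

theorem ofFn_mul (x y : ↥K) : List.ofFn (sig hperm (x * y)) = comp (List.ofFn (sig hperm x)) (List.ofFn (sig hperm y)) := by
  rw [comp_ofFn, sig_mul hz hperm]

theorem sig_pow_eq (x : ↥K) (h : sig hperm x = id) (n : ℕ) : sig hperm (x ^ n) = id := by
  induction n with
  | zero => rw [pow_zero, sig_one hz hperm]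
  | succ n ih => rw [pow_succ, sig_mul hz hperm, ih, h, Function.comp_id]

omit hz in
theorem ofFn_eq {f : Fin m → Fin m} (h : List.ofFn f = List.finRange m) : f = id := by
  have h1 : List.ofFn f = List.ofFn (id : Fin m → Fin m) := by rw [h, List.finRange]; rfl
  exact List.ofFn_injective h1

theorem sig_of_pow (x : ↥K) {n : ℕ} (hc : (orderOf x).Coprime n) (h : sig hperm (x ^ n) = id) : sig hperm x = id := by
  obtain ⟨a, ha⟩ := exists_pow_eq_self_of_coprime hc.symm
  rw [← ha]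
  exact sig_pow_eq hz hperm _ h a

/-- **soundness of the check** -/
theorem sound [Finite K] (h3 : ¬ 3 ∣ Nat.card K) {t x : ↥K} (hodd : Odd (orderOf x))
    (h : chk (List.ofFn (sig hperm t)) (List.ofFn (sig hperm x)) = true) : sig hperm x = id := by
  have hc3 : ∀ y : ↥K, (orderOf y).Coprime 3 := fun y =>
    ((Nat.Prime.coprime_iff_not_dvd Nat.prime_three).2 fun h => h3 (h.trans (orderOf_dvd_natCard y))).symm
  have hneg : ∀ w : ↥K, ¬ ((comp (comp (List.ofFn (sig hperm w)) (List.ofFn (sig hperm t)))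
      (comp (List.ofFn (sig hperm w)) (List.ofFn (sig hperm t))) != List.finRange m) &&
      (comp (comp (comp (comp (List.ofFn (sig hperm w)) (List.ofFn (sig hperm t)))
        (comp (List.ofFn (sig hperm w)) (List.ofFn (sig hperm t)))) (comp (comp (List.ofFn (sig hperm w)) (List.ofFn (sig hperm t)))
        (comp (List.ofFn (sig hperm w)) (List.ofFn (sig hperm t))))) (comp (comp (List.ofFn (sig hperm w)) (List.ofFn (sig hperm t)))
        (comp (List.ofFn (sig hperm w)) (List.ofFn (sig hperm t)))) == List.finRange m)) = true := by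
    intro w hw
    rw [Bool.and_eq_true, bne_iff_ne, beq_iff_eq] at hw
    simp only [← ofFn_mul hz hperm] at hw
    refine hw.1 ?_
    have h1 := ofFn_eq hw.2
    have h2 : sig hperm ((w * t * (w * t)) ^ 3) = id := by
      rw [← h1]; congr 1; simp only [pow_succ, pow_zero, one_mul, mul_assoc]
    rw [sig_of_pow hz hperm _ (hc3 _) h2, List.finRange]; rfl
  unfold chk at h
  rw [Bool.or_eq_true, beq_iff_eq] at h
  rcases h with h | h
  · simp only [← ofFn_mul hz hperm] at h
    have h1 := ofFn_eq h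
    refine sig_of_pow hz hperm x (n := 12) ?_ ?_
    · rw [show 12 = 4 * 3 by norm_num]
      refine Nat.Coprime.mul_right ?_ (hc3 x)
      exact Nat.Coprime.pow_right 2 (Nat.coprime_two_right.2 hodd)
    · rw [← h1]; congr 1; simp only [pow_succ, pow_zero, one_mul, mul_assoc]
  · exfalso
    simp only [← ofFn_mul hz hperm, List.any_cons, List.any_nil, Bool.or_false, Bool.or_eq_true] at h
    simp only [← ofFn_mul hz hperm] at hneg
    rcases h with h | h | h | h | h | h <;> exact hneg _ h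

end act

/-! ### the two types -/

theorem centr_of_id {Γ : Type u} [Group Γ] {m : ℕ} [NeZero m] {z : Fin m → Γ} {K : Subgroup Γ}
    (hperm : ∀ x ∈ K, ∀ i, ∃ j, x * z i * x⁻¹ = z j) {x : Γ} (hx : x ∈ K) (h : sig hperm ⟨x, hx⟩ = id) (i : Fin m) :
    x * z i = z i * x := by
  have h1 := sig_spec hperm ⟨x, hx⟩ i
  rw [h] at h1
  exact mul_inv_eq_iff_eq_mul.1 h1

/-- **type `E₇`** -/
theorem odd_fix7 {Γ : Type u} [Group Γ] {z : Fin 7 → Γ} (hz : Function.Injective z)
    (hrel : ∀ a b, a ≠ b → z a * z b = z (third a b)) {K : Subgroup Γ} [Finite K] (h3 : ¬ 3 ∣ Nat.card K)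
    (hperm : ∀ x ∈ K, ∀ i, ∃ j, x * z i * x⁻¹ = z j) {t : Γ} (ht : t ∈ K) (hτ : ∀ i, t * z i * t⁻¹ = z (tau7 i))
    {x : Γ} (hx : x ∈ K) (hodd : Odd (orderOf x)) (i : Fin 7) : x * z i = z i * x := by
  refine centr_of_id hperm hx (sound hz hperm h3 (t := ⟨t, ht⟩) (x := ⟨x, hx⟩) ?_ ?_) i
  · rwa [Subgroup.orderOf_mk]
  · obtain ⟨σ, hσ⟩ : ∃ σ, σ = sig hperm ⟨x, hx⟩ := ⟨_, rfl⟩
    have h1 : ∀ a b, a ≠ b → σ (third a b) = third (σ a) (σ b) := by
      intro a b hab
      rw [hσ]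
      refine sig_eq hz hperm _ ?_
      have hab' : sig hperm ⟨x, hx⟩ a ≠ sig hperm ⟨x, hx⟩ b := fun h => hab (sig_inj hz hperm _ h)
      rw [← hrel a b hab, ← hrel _ _ hab', ← sig_spec hperm, ← sig_spec hperm]
      group
    have h2 : sig hperm ⟨t, ht⟩ = tau7 := by
      funext j
      exact sig_eq hz hperm _ (hτ j)
    have hinj : Function.Injective σ := hσ ▸ sig_inj hz hperm ⟨x, hx⟩
    rw [h2, ← hσ]
    have h3 : List.ofFn σ = [σ 0, σ 1, σ 2, third (σ 1) (σ 2), third (σ 0) (third (σ 1) (σ 2)), third (σ 0) (σ 2),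
        third (σ 0) (σ 1)] := by
      rw [← h1 1 2 (by decide), ← h1 0 (third 1 2) (by decide), ← h1 0 2 (by decide), ← h1 0 1 (by decide)]
      simp only [List.ofFn_succ, List.ofFn_zero]
      rfl
    rw [h3]
    refine chk7 _ _ _ (fun h => ?_) (fun h => ?_) (fun h => ?_) (fun h => ?_)
    · exact absurd (hinj h) (by decide)
    · rw [← h1 0 1 (by decide)] at h
      exact absurd (hinj h) (by decide)
    · exact absurd (hinj h) (by decide)
    · exact absurd (hinj h) (by decide)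

/-- **type `E₈`** -/
theorem odd_fix8 {Γ : Type u} [Group Γ] {z : Fin 8 → Γ} (hz : Function.Injective z)
    (hrel : ∀ a b c, a ≠ b → a ≠ c → b ≠ c → z a * z b * z c = z (fourth a b c)) {K : Subgroup Γ} [Finite K]
    (h3 : ¬ 3 ∣ Nat.card K) (hperm : ∀ x ∈ K, ∀ i, ∃ j, x * z i * x⁻¹ = z j) {t : Γ} (ht : t ∈ K)
    (hτ : ∀ i, t * z i * t⁻¹ = z (tau8 i)) {x : Γ} (hx : x ∈ K) (hodd : Odd (orderOf x)) (i : Fin 8) :
    x * z i = z i * x := by
  refine centr_of_id hperm hx (sound hz hperm h3 (t := ⟨t, ht⟩) (x := ⟨x, hx⟩) ?_ ?_) i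
  · rwa [Subgroup.orderOf_mk]
  · obtain ⟨σ, hσ⟩ : ∃ σ, σ = sig hperm ⟨x, hx⟩ := ⟨_, rfl⟩
    have h1 : ∀ a b c, a ≠ b → a ≠ c → b ≠ c → σ (fourth a b c) = fourth (σ a) (σ b) (σ c) := by
      intro a b c hab hac hbc
      rw [hσ]
      refine sig_eq hz hperm _ ?_
      have hne : ∀ {a b : Fin 8}, a ≠ b → sig hperm ⟨x, hx⟩ a ≠ sig hperm ⟨x, hx⟩ b := fun h h' => h (sig_inj hz hperm _ h')
      rw [← hrel a b c hab hac hbc, ← hrel _ _ _ (hne hab) (hne hac) (hne hbc), ← sig_spec hperm, ← sig_spec hperm, ← sig_spec hperm]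
      group
    have h2 : sig hperm ⟨t, ht⟩ = tau8 := by
      funext j
      exact sig_eq hz hperm _ (hτ j)
    have hinj : Function.Injective σ := hσ ▸ sig_inj hz hperm ⟨x, hx⟩
    rw [h2, ← hσ]
    have h3 : List.ofFn σ = [σ 0, σ 1, σ 2, σ 3, fourth (σ 0) (σ 2) (σ 3), fourth (σ 1) (σ 2) (σ 3),
        fourth (σ 0) (σ 1) (σ 3), fourth (σ 0) (σ 1) (σ 2)] := by
      rw [← h1 0 2 3 (by decide) (by decide) (by decide), ← h1 1 2 3 (by decide) (by decide) (by decide),
        ← h1 0 1 3 (by decide) (by decide) (by decide), ← h1 0 1 2 (by decide) (by decide) (by decide)]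
      simp only [List.ofFn_succ, List.ofFn_zero]
      rfl
    rw [h3]
    have hne : ∀ {a b : Fin 8}, a ≠ b → σ a ≠ σ b := fun h h' => h (hinj h')
    refine chk8 _ _ _ _ (hne (by decide)) ?_ ?_
    · simp only [List.mem_cons, List.not_mem_nil, or_false, not_or]
      exact ⟨hne (by decide), hne (by decide)⟩
    · rw [← h1 0 1 2 (by decide) (by decide) (by decide)]
      simp only [List.mem_cons, List.not_mem_nil, or_false, not_or]
      exact ⟨hne (by decide), hne (by decide), hne (by decide), hne (by decide)⟩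

/-! ### a `2`-group with the transvection -/

/-- a `2`-group containing `Q` and an element acting as `τ` -/
theorem exists_two {G : Type u} [Group G] [Finite G] {ι : Type*} {z : ι → G} {τ : ι → ι} (hτ : ∀ i, τ (τ i) = i) {n : G}
    (hn : ∀ i, n * z i * n⁻¹ = z (τ i)) {Q : Subgroup G} (hQ : IsPGroup 2 Q) (hQz : ∀ q ∈ Q, ∀ i, q * z i = z i * q) :
    ∃ P : Subgroup G, IsPGroup 2 P ∧ Q ≤ P ∧ ∃ t ∈ P, ∀ i, t * z i * t⁻¹ = z (τ i) := by
  have := Fact.mk Nat.prime_two
  -- a power of `n` of `2`-power order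
  obtain ⟨a, b, hb, hab⟩ := Nat.exists_eq_two_pow_mul_odd (orderOf_pos n).ne'
  have hpow : ∀ (j : ℕ) (i : ι), n ^ (2 * j + 1) * z i * (n ^ (2 * j + 1))⁻¹ = z (τ i) := by
    intro j
    induction j with
    | zero => intro i; simpa using hn i
    | succ j ih =>
      intro i
      have e : n ^ (2 * (j + 1) + 1) * z i * (n ^ (2 * (j + 1) + 1))⁻¹ =
          n ^ (2 * j + 1) * (n * (n * z i * n⁻¹) * n⁻¹) * (n ^ (2 * j + 1))⁻¹ := by
        rw [show 2 * (j + 1) + 1 = (2 * j + 1) + 2 by ring, pow_add]; group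
      rw [e, hn, hn, ih, hτ]
  obtain ⟨j, hj⟩ := hb
  obtain ⟨t, ht⟩ : ∃ t, t = n ^ b := ⟨_, rfl⟩
  have htz : ∀ i, t * z i * t⁻¹ = z (τ i) := by rw [ht, hj]; exact hpow j
  have ht2 : t ^ 2 ^ a = 1 := by
    rw [ht, ← pow_mul, mul_comm, ← hab, pow_orderOf_eq_one]
  -- the group acting as `1` or `τ`
  have hττ : ∀ {x : G}, (∀ i, x * z i * x⁻¹ = z (τ i)) → ∀ i, x⁻¹ * z i * x = z (τ i) := by
    intro x h i
    have h1 := h (τ i)
    rw [hτ] at h1
    rw [← h1]; group
  have hid : ∀ {x : G}, (∀ i, x * z i * x⁻¹ = z i) → ∀ i, x⁻¹ * z i * x = z i := by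
    intro x h i
    conv_lhs => rw [← h i]
    group
  let N : Subgroup G :=
    { carrier := {x | (∀ i, x * z i * x⁻¹ = z i) ∨ ∀ i, x * z i * x⁻¹ = z (τ i)}
      one_mem' := Or.inl fun i => by group
      mul_mem' := by
        intro x y hx hy
        have e : ∀ i, x * y * z i * (x * y)⁻¹ = x * (y * z i * y⁻¹) * x⁻¹ := fun i => by group
        rcases hx with hx | hx <;> rcases hy with hy | hy
        · exact Or.inl fun i => by rw [e, hy, hx]
        · exact Or.inr fun i => by rw [e, hy, hx]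
        · exact Or.inr fun i => by rw [e, hy, hx]
        · exact Or.inl fun i => by rw [e, hy, hx, hτ]
      inv_mem' := by
        intro x hx
        rcases hx with hx | hx
        · exact Or.inl fun i => by rw [inv_inv]; exact hid hx i
        · exact Or.inr fun i => by rw [inv_inv]; exact hττ hx i }
  have htN : t ∈ N := Or.inr htz
  have hQN : Q ≤ N := fun q hq => Or.inl fun i => mul_inv_eq_iff_eq_mul.2 (hQz q hq i)
  have htP : IsPGroup 2 (zpowers t) := by
    rw [IsPGroup.iff_card]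
    obtain ⟨c, -, hc⟩ := (Nat.dvd_prime_pow Nat.prime_two).1 (orderOf_dvd_of_pow_eq_one ht2)
    exact ⟨c, by rw [Nat.card_zpowers, hc]⟩
  obtain ⟨P₀, hP₀⟩ := (htP.comap_subtype (K := N)).exists_le_sylow
  obtain ⟨P₁, hP₁⟩ := (hQ.comap_subtype (K := N)).exists_le_sylow
  obtain ⟨g, hg⟩ := MulAction.exists_smul_eq ↥N P₀ P₁
  have ht0 : (⟨t, htN⟩ : ↥N) ∈ P₀ := hP₀ (by
    rw [Subgroup.mem_comap]
    exact mem_zpowers t)
  refine ⟨(P₁ : Subgroup ↥N).map N.subtype, P₁.2.map _, fun q hq => ⟨⟨q, hQN hq⟩, hP₁ ?_, rfl⟩,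
    g * t * (g : G)⁻¹, ⟨g * ⟨t, htN⟩ * g⁻¹, ?_, rfl⟩, fun i => ?_⟩
  · rw [Subgroup.mem_comap]
    exact hq
  · rw [← hg]
    show g * ⟨t, htN⟩ * g⁻¹ ∈ ((g • P₀ : Sylow 2 ↥N) : Subgroup ↥N)
    rw [Sylow.coe_subgroup_smul, ← MulAut.conj_apply, ← MulAut.smul_def, Subgroup.smul_mem_pointwise_smul_iff]
    exact ht0
  · have e : (g : G) * t * (g : G)⁻¹ * z i * ((g : G) * t * (g : G)⁻¹)⁻¹ =
        g * (t * ((g : G)⁻¹ * z i * g) * t⁻¹) * (g : G)⁻¹ := by group
    rw [e]
    rcases g.2 with h | h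
    · rw [hid h, htz, h]
    · rw [hττ h, htz, h, hτ]

end Cfsg.Agent.H565.RX
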